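import Cfsg.Agent.Lib.HeType.Coords.Mul
import Cfsg.Agent.Lib.HeType.Local.Checks
import Cfsg.Agent.Lib.HeType.Local.Split
import Cfsg.Agent.Lib.HeType.Local.False

/-!
# Fusion of the central involution, from the coordinates
-/

set_option autoImplicit false
set_option linter.unusedSectionVars false
set_option maxRecDepth 20000

namespace CfsgLib.HeType

open Local

variable {G : Type*} [Group G] [Finite G] {t : G} {Q : Subgroup G} {R : List ℕ} {e : Bool} {x y r : G} {a b : ℕ → G}

theorem Coords.isCode (C : Coords t Q R e x y r a b) {A L : List ℕ} (hA : actOk R A = true) (hL : lmOk e L = true) :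
    IsCode t (cEl t a b x y r) (fm A L) where
  mem c _ := Subgroup.mem_centralizer_singleton_iff.1 (C.cEl_mem (c := c))
  surj g hg := C.cEl_surj (Subgroup.mem_centralizer_singleton_iff.2 hg)
  inj c hc d hd h := C.cEl_inj hc hd h
  mul c hc d hd := by rw [(fm_eq qm_ok hA hL hc hd).1]; exact (C.cEl_mul hc hd).1
  lt c hc d hd := by rw [(fm_eq qm_ok hA hL hc hd).1]; exact (C.cEl_mul hc hd).2
  el_zero := C.cEl_one
  el_top := by
    show qEl t a b (64 % 128) * lWord x y r (lPaths.getD (64 / 128) []) = t
    rw [show 64 % 128 = 64 by norm_num, show 64 / 128 = 0 by norm_num, C.frame.el_top,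
      show lPaths.getD 0 [] = [] by decide +kernel]
    simp [lWord]

theorem Coords.order_t (C : Coords t Q R e x y r a b) : orderOf t = 2 :=
  orderOf_eq_prime (by rw [pow_two]; exact C.frame.tt) C.frame.t_ne

theorem Coords.index_facts (C : Coords t Q R e x y r a b) (hG : Nat.card G = 4030387200) :
    Subgroup.centralizer ({t} : Set G) ≠ ⊤ ∧ ¬ 2 ∣ (Subgroup.centralizer ({t} : Set G)).index := by
  have h := (Subgroup.centralizer ({t} : Set G)).card_mul_index
  rw [C.cardC, hG] at h
  refine ⟨fun e => ?_, fun h2 => ?_⟩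
  · rw [e, Subgroup.index_top] at h
    omega
  · omega

theorem Coords.cEl_low (C : Coords t Q R e x y r a b) {c : ℕ} (hc : c < 128) :
    cEl t a b x y r c = qEl t a b c := by
  show qEl t a b (c % 128) * lWord x y r (lPaths.getD (c / 128) []) = _
  rw [Nat.mod_eq_of_lt hc, Nat.div_eq_of_lt hc, show lPaths.getD 0 [] = [] by decide +kernel]
  simp [lWord]

/-- In the split model an involution of one of the two groups is conjugate to the central one. -/
theorem fused_split [IsSimpleGroup G] (C : Coords t Q [65, 4, 2, 72, 120, 96] true x y r a b)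
    (hne : Subgroup.centralizer ({t} : Set G) ≠ ⊤) (hodd : ¬ 2 ∣ (Subgroup.centralizer ({t} : Set G)).index) :
    IsConj t (a 0) ∨ IsConj t (b 0) := by
  have h := split_case (C.isCode act0_ok lmT_ok) C.order_t hne hodd
  rw [C.cEl_low (by norm_num), C.cEl_low (by norm_num)] at h
  rw [← C.frame.el_a (show 0 < 3 by norm_num), ← C.frame.el_b (show 0 < 3 by norm_num)]
  simpa using h

/-- Fusion: the coordinates are those of the Held group and `t` is conjugate into one of the two groups. -/
theorem fused [IsSimpleGroup G] (C : Coords t Q R e x y r a b) (hG : Nat.card G = 4030387200) :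
    R = [65, 4, 2, 72, 120, 96] ∧ e = true ∧ (IsConj t (a 0) ∨ IsConj t (b 0)) := by
  obtain ⟨hne, hodd⟩ := C.index_facts hG
  have ht := C.order_t
  have hR := C.good
  simp only [goodR, List.mem_cons, List.not_mem_nil, or_false] at hR
  cases e
  · exfalso
    rcases hR with rfl | rfl | rfl
    · exact false_case (C.isCode act0_ok lmF_ok) ht hne hodd complete0F conj0F count0F swap_free0
    · exact false_case (C.isCode act1_ok lmF_ok) ht hne hodd complete1F conj1F count1F swap_free1
    · exact false_case (C.isCode act2_ok lmF_ok) ht hne hodd complete2F conj2F count2F swap_free2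
  · rcases hR with rfl | rfl | rfl
    · exact ⟨rfl, rfl, fused_split C hne hodd⟩
    · exact (case1_false (C.isCode act1_ok lmT_ok) ht hne hodd hG C.cardC).elim
    · exact (case2_false (C.isCode act2_ok lmT_ok) ht hne hodd hG C.cardC).elim

theorem rep_two : reps0T.getD 2 (0, 0, 0) = (10, 32, 16) ∧ (reps0T.all fun r => reps0T.all fun r' =>
    !(r.2 == (32, 16)) || !(r.2.1 == r'.2.2 && r.2.2 == r'.2.1)) = true := by decide +kernel

/-- The class of forty-two involutions of the extraspecial group is not fused to the central involution. -/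
theorem not_fused_42 (C : Coords t Q [65, 4, 2, 72, 120, 96] true x y r a b) :
    ¬ IsConj t (cEl t a b x y r 10) := by
  intro hc
  have K := C.isCode act0_ok lmT_ok
  obtain ⟨hr, hv⟩ := K.rep_lt count0T (r := (10, 32, 16)) (by decide +kernel)
  have hsq : fm actT0 lmT 10 10 = 0 := by decide +kernel
  have hi : Inv' t (cEl t a b x y r 10) := by
    refine ⟨K.mem 10 (by norm_num), ?_, ?_, ?_⟩
    · rw [K.mul 10 (by norm_num) 10 (by norm_num), hsq, K.el_zero]
    · intro h
      exact absurd (K.inj 10 (by norm_num) 0 (by norm_num) (h.trans K.el_zero.symm)) (by norm_num)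
    · intro h
      exact absurd (K.inj 10 (by norm_num) 64 (by norm_num) (h.trans K.el_top.symm)) (by norm_num)
  obtain ⟨g, -, hi', -, hs⟩ := exists_swap C.order_t hi hc
  obtain ⟨r, hr', r', hr'', hv1, -, e1, e2⟩ := K.swap_vals complete0T conj0T count0T hi hi' hs
  have h2 : r.2 = (32, 16) := Prod.ext (hv1.1.symm.trans hv.1) (hv1.2.symm.trans hv.2)
  have := List.all_eq_true.1 (List.all_eq_true.1 rep_two.2 r hr') r' hr''
  rw [h2] at e1 e2
  simp [h2, ← e1, ← e2] at this

/-- An element of the two fused classes, carried to `t`, carries `t` into the extraspecial group. -/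
theorem fused_partner (C : Coords t Q [65, 4, 2, 72, 120, 96] true x y r a b)
    {f g : G} (hf : f = a 0 ∨ f = b 0) (he : g * f * g⁻¹ = t) : g * t * g⁻¹ ∈ Q := by
  have K := C.isCode act0_ok lmT_ok
  obtain ⟨c, hc, hfc⟩ : ∃ c, (c = 1 ∨ c = 8) ∧ f = cEl t a b x y r c := by
    rcases hf with h | h
    · refine ⟨1, .inl rfl, h.trans ?_⟩
      rw [C.cEl_low (by norm_num), ← C.frame.el_a (show 0 < 3 by norm_num)]
      rfl
    · refine ⟨8, .inr rfl, h.trans ?_⟩
      rw [C.cEl_low (by norm_num), ← C.frame.el_b (show 0 < 3 by norm_num)]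
      rfl
  have hmem : (c, 48, 48) ∈ reps0T := by rcases hc with rfl | rfl <;> decide +kernel
  obtain ⟨hlt, hv⟩ := K.rep_lt count0T hmem
  have hne : c ≠ 0 ∧ c ≠ 64 ∧ fm actT0 lmT c c = 0 := by rcases hc with rfl | rfl <;> decide +kernel
  have hi : Inv' t (cEl t a b x y r c) := by
    refine ⟨K.mem c hlt, ?_, ?_, ?_⟩
    · rw [K.mul c hlt c hlt, hne.2.2, K.el_zero]
    · exact fun h => hne.1 (K.inj c hlt 0 (by norm_num) (h.trans K.el_zero.symm))
    · exact fun h => hne.2.1 (K.inj c hlt 64 (by norm_num) (h.trans K.el_top.symm))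
  rw [hfc] at he
  obtain ⟨d, hd, ed⟩ := partner K C.order_t hi hv he
  rw [← ed, C.cEl_low hd]
  exact (C.hQ _).2 ⟨d, hd, rfl⟩

end CfsgLib.HeType
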